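import Groth.Agent.Lib.BlowUpBC12.Algebra
import Groth.Agent.Lib.LCI6.LCI
import Groth.Agent.Lib.LCI6.Presentation
import Mathlib.RingTheory.Localization.BaseChange
import Mathlib.RingTheory.Polynomial.Basic
import Mathlib.LinearAlgebra.Matrix.Permutation

/-!
# The charts of the blow-up in a Koszul regular sequence are local complete intersections
-/

set_option autoImplicit false
universe u

open MvPolynomial TensorProduct CategoryTheory

namespace GrothLib.PerfBlow28

open GrothLib.KoszulColon GrothLib.LCI6 GrothLib.BlowUp17 GrothLib.BlowUp GrothLib.BlowUpBC12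

/-- A cycle which is a boundary after inverting `f` is killed by a power of `f` modulo boundaries. -/
theorem exists_pow_smul_mem {P : Type u} [CommRing P] (f : P) (A : Type u) [CommRing A] [Algebra P A]
    [IsLocalization.Away f A] (l : List P)
    (h : LCI.IsKoszulRegularSeq A (l.map (algebraMap P A))) (i : ℤ) (hi : i ≠ 0)
    (x : (Koszul.koszul P l).X i) (hx : ((Koszul.koszul P l).d i (i + 1)).hom x = 0) :
    ∃ N : ℕ, f ^ N • x ∈ LinearMap.range ((Koszul.koszul P l).d (i - 1) i).hom := by
  have hex := exact_lTensor_of_koszul A (algebraMap P A) (fun _ => rfl) l i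
    ((HomologicalComplex.exactAt_iff_isZero_homology _ i).2 (h i hi))
  obtain ⟨y, hy⟩ := (hex ((1 : A) ⊗ₜ x)).1 (by simp [hx])
  haveI : ∀ N : ModuleCat.{u} P, IsLocalizedModule (Submonoid.powers f) (TensorProduct.mk P A N 1) :=
    fun N => (isLocalizedModule_iff_isBaseChange (Submonoid.powers f) A _).2 (TensorProduct.isBaseChange P N A)
  obtain ⟨⟨y₀, s⟩, hs⟩ := IsLocalizedModule.surj (Submonoid.powers f)
    (TensorProduct.mk P A ((Koszul.koszul P l).X (i - 1)) 1) y
  have h1 : TensorProduct.mk P A ((Koszul.koszul P l).X i) 1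
      (((Koszul.koszul P l).d (i - 1) i).hom y₀) =
      TensorProduct.mk P A ((Koszul.koszul P l).X i) 1 ((s : P) • x) := by
    show ((Koszul.koszul P l).d (i - 1) i).hom.lTensor A ((1 : A) ⊗ₜ y₀) = (1 : A) ⊗ₜ ((s : P) • x)
    rw [show (1 : A) ⊗ₜ[P] y₀ = (s : P) • y from hs.symm, map_smul, hy, tmul_smul]
  obtain ⟨t, ht⟩ := (IsLocalizedModule.eq_iff_exists (Submonoid.powers f) _).1 h1
  obtain ⟨N, hN⟩ := (Submonoid.powers f).mul_mem t.2 s.2
  refine ⟨N, (t : P) • y₀, ?_⟩
  rw [map_smul, show f ^ N = (t : P) * s from hN, mul_smul]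
  exact ht

/-- If `f, g₁, …` is Koszul regular and `g₁, …` is Koszul regular after inverting `f`, then
`g₁, …` is Koszul regular. -/
theorem isKoszulRegularSeq_of_cons {P : Type u} [CommRing P] (f : P) (A : Type u) [CommRing A]
    [Algebra P A] [IsLocalization.Away f A] (l : List P)
    (hf : LCI.IsKoszulRegularSeq P (f :: l))
    (h : LCI.IsKoszulRegularSeq A (l.map (algebraMap P A))) : LCI.IsKoszulRegularSeq P l := by
  let γ : Module.Dual P P := LinearMap.id
  have hmap : ∀ m : List P, m.map γ = m := fun m => by simp [γ]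
  have hkc : ∀ m : List P, Koszul.koszul P m = kc γ m := fun m => (congrArg _ (hmap m)).symm
  rw [isKoszulRegularSeq_iff] at hf ⊢
  rw [hkc] at hf
  intro j hj x hx
  obtain ⟨N, hN⟩ := exists_pow_smul_mem f A l h j hj x hx
  revert x
  rw [hkc]
  rcases lt_or_gt_of_ne hj with hj' | hj'
  swap
  · intro x _ _
    haveI : Subsingleton ((kc γ l).X j) :=
      ModuleCat.subsingleton_of_isZero (isZero_out γ l _ (Or.inl hj'))
    exact ⟨0, Subsingleton.elim _ _⟩
  intro x hx hN
  have hij : j - 1 + 1 = j := by omega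
  have key : ∀ z : (kc γ l).X j, ((kc γ l).d j (j + 1)).hom z = 0 →
      f • z ∈ LinearMap.range ((kc γ l).d (j - 1) j).hom →
      z ∈ LinearMap.range ((kc γ l).d (j - 1) j).hom := by
    intro z hz hfz
    obtain ⟨b, hb⟩ := hfz
    let c : (kc γ (f :: l)).X (j - 1) :=
      (in₁ γ f l (j - 1) j hij).hom z - (in₂ γ f l (j - 1)).hom b
    have hp1 : (pr₁ γ f l (j - 1) j hij).hom c = z := by
      rw [map_sub, pr₁_in₁, pr₁_in₂, sub_zero]
    have hp2 : (pr₂ γ f l (j - 1)).hom c = -b := by
      rw [map_sub, pr₂_in₁, pr₂_in₂, zero_sub]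
    have hcyc : ((kc γ (f :: l)).d (j - 1) (j - 1 + 1)).hom c = 0 := by
      have e : ((kc γ (f :: l)).d (j - 1) j).hom c = 0 := by
        rw [pr_decomp γ f l j (j + 1) rfl (((kc γ (f :: l)).d (j - 1) j).hom c),
          pr₁_d γ f l (j - 1) j (j + 1) hij rfl, pr₂_d γ f l (j - 1) j hij, hp1, hp2, hz, map_neg ((kc γ l).d (j - 1) j).hom, hb]
        show (in₁ γ f l j (j + 1) rfl).hom (-0) + (in₂ γ f l j).hom (f • z + -(f • z)) = 0
        rw [neg_zero, add_neg_cancel, map_zero, map_zero, add_zero]
      rwa [hij]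
    obtain ⟨w, hw⟩ := hf (j - 1) (by omega) c hcyc
    have h2 := congrArg (pr₁ γ f l (j - 1) j hij).hom hw
    rw [hp1, pr₁_d γ f l (j - 1 - 1) (j - 1) j (by omega) hij] at h2
    exact ⟨-(pr₁ γ f l (j - 1 - 1) (j - 1) (by omega)).hom w, by rw [map_neg]; exact h2⟩
  induction N generalizing x with
  | zero =>
    rw [pow_zero, one_smul] at hN
    exact hN
  | succ N ih =>
    refine ih x hx (key _ ?_ ?_)
    · rw [map_smul, hx, smul_zero]
    · rw [smul_smul, ← pow_succ']
      exact hN

/-- Koszul regularity does not depend on the order. -/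
theorem isKoszulRegularSeq_perm {P : Type u} [CommRing P] {n : ℕ} (σ : Equiv.Perm (Fin n)) (g : Fin n → P)
    (hg : LCI.IsKoszulRegularSeq P (List.ofFn g)) : LCI.IsKoszulRegularSeq P (List.ofFn (g ∘ σ)) := by
  have := isKoszulRegularSeq_mulVec (σ.permMatrix P)
    (by rw [Matrix.det_permutation]; exact (Units.isUnit _).map (Int.castRingHom _)) _ hg
  rwa [Matrix.permMatrix_mulVec] at this

attribute [local instance] MvPolynomial.algebraMvPolynomial

variable {B : Type u} [CommRing B] {n : ℕ} (a : Fin (n + 1) → B) (i : Fin (n + 1))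

/-- The numbering of the variables of the chart. -/
noncomputable def num : Fin n ≃ Var i :=
  Equiv.ofBijective (fun k => ⟨Equiv.swap 0 i k.succ, fun h => Fin.succ_ne_zero k
      ((Equiv.swap 0 i).injective (h.trans (Equiv.swap_apply_left 0 i).symm))⟩)
    ⟨fun k k' h => Fin.succ_injective _ ((Equiv.swap 0 i).injective (congrArg Subtype.val h)), fun ⟨m, hm⟩ => by
      have h0 : Equiv.swap 0 i m ≠ 0 := fun h => hm ((Equiv.swap 0 i).injective
        (h.trans (Equiv.swap_apply_right 0 i).symm))
      obtain ⟨k, hk⟩ := Fin.exists_succ_eq.2 h0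
      exact ⟨k, Subtype.ext (show Equiv.swap 0 i k.succ = m by rw [hk, Equiv.swap_apply_self])⟩⟩

/-- The equations of the chart are Koszul regular. -/
theorem isKoszulRegularSeq_chart (ha : LCI.IsKoszulRegularSeq B (List.ofFn a)) :
    LCI.IsKoszulRegularSeq (MvPolynomial (Var i) B)
      (List.ofFn fun k : Fin n => eqs a i (num i k).1) := by
  classical
  let f : MvPolynomial (Var i) B := C (a i)
  let Bf := Localization.Away (a i)
  haveI : IsLocalization.Away f (MvPolynomial (Var i) Bf) := by
    have := MvPolynomial.isLocalization (σ := Var i) (Submonoid.powers (a i)) Bf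
    rwa [Submonoid.map_powers] at this
  refine isKoszulRegularSeq_of_cons f (MvPolynomial (Var i) Bf) _ ?_ ?_
  · have h := isKoszulRegularSeq_perm (Equiv.swap 0 i) _ (isKoszulRegularSeq_eqs a i ha)
    rw [List.ofFn_succ] at h
    rw [Function.comp_apply, Equiv.swap_apply_left, show eqs a i i = f from if_pos rfl] at h
    exact h
  · let e := (MvPolynomial.renameEquiv Bf (num i)).toRingEquiv
    let c : Fin n → Bf := fun k =>
      IsLocalization.mk' Bf (a (num i k).1) (⟨a i, Submonoid.mem_powers _⟩ : Submonoid.powers (a i))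
    have h0 := isKoszulRegularSeq_equiv e _ (GrothLib.LCI6.isKoszulRegularSeq_X_sub_C (m := n) c)
    rw [List.map_ofFn] at h0
    have hu : IsUnit (C (algebraMap B Bf (a i)) : MvPolynomial (Var i) Bf) :=
      (IsLocalization.Away.algebraMap_isUnit (a i)).map C
    have h1 := isKoszulRegularSeq_smul (fun _ => -C (algebraMap B Bf (a i))) (fun _ => hu.neg) _ h0
    rw [List.map_ofFn]
    refine Eq.mp (congrArg (fun g => LCI.IsKoszulRegularSeq _ (List.ofFn g)) (funext fun k => ?_)) h1
    show -C (algebraMap B Bf (a i)) * MvPolynomial.rename (num i) (X k - C (c k)) =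
      MvPolynomial.map (algebraMap B Bf) (eqs a i (num i k).1)
    rw [eqs, if_neg (num i k).2, xv, dif_neg (num i k).2, map_sub, map_sub, map_mul, rename_X, rename_C,
      MvPolynomial.map_C, MvPolynomial.map_C, MvPolynomial.map_X]
    have hc : C (algebraMap B Bf (a i)) * C (c k) = (C (algebraMap B Bf (a (num i k).1)) : MvPolynomial (Var i) Bf) := by
      rw [← map_mul]
      exact congrArg C (IsLocalization.mk'_spec' Bf (a (num i k).1) (⟨a i, Submonoid.mem_powers _⟩ : Submonoid.powers (a i)))
    rw [← hc]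
    ring

/-- The kernel of the presentation of the chart. -/
theorem ker_pres (ha : LCI.IsKoszulRegularSeq B (List.ofFn a)) :
    RingHom.ker (pres a i).toRingHom = rels a i := by
  classical
  refine le_antisymm (fun P hP => ?_) (Ideal.span_le.2 ?_)
  · let R := MvPolynomial (Var i) B ⧸ rels a i
    let mk : MvPolynomial (Var i) B →ₐ[B] R := Ideal.Quotient.mkₐ B _
    have hrel : ∀ k, mk (C (a k)) = mk (C (a i)) * mk (xv i k) := by
      intro k
      by_cases hk : k = i
      · subst hk; simp [xv]
      · rw [← map_mul]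
        exact (Ideal.Quotient.eq).2 (Ideal.subset_span ⟨k, hk, by rw [eqs, if_neg hk]⟩)
    have hC : ∀ r : B, algebraMap B R r = mk (C r) := fun r => (mk.commutes r).symm
    have hnzd : algebraMap B R (a i) ∈ nonZeroDivisors R := by
      rw [hC, mem_nonZeroDivisors_iff_right]
      intro z hz
      obtain ⟨z, rfl⟩ := Ideal.Quotient.mk_surjective z
      refine Ideal.Quotient.eq_zero_iff_mem.2 (mem_rels_of_C_mul_mem a i ha z ?_)
      rw [mul_comm]
      exact Ideal.Quotient.eq_zero_iff_mem.1 hz
    have hle : (ctr a).map (algebraMap B R) ≤ Ideal.span {algebraMap B R (a i)} := by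
      rw [Ideal.map_span, Ideal.span_le]
      rintro _ ⟨_, ⟨k, rfl⟩, rfl⟩
      rw [SetLike.mem_coe, hC, hC, hrel k]
      exact Ideal.mul_mem_right _ _ (Ideal.mem_span_singleton_self _)
    obtain ⟨ψ₀, hψ₀⟩ := exists_lift_affineAlgebra (a i) (algebraMap B R) hnzd hle
    let ψ : Chart a i →ₐ[B] R := { ψ₀ with commutes' := fun r => RingHom.congr_fun hψ₀ r }
    have hψ : ψ.comp (pres a i) = mk := by
      refine MvPolynomial.algHom_ext fun k => ?_
      rw [AlgHom.comp_apply, pres, aeval_X]
      refine (mul_cancel_left_mem_nonZeroDivisors hnzd).1 ?_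
      have h1 := congrArg ψ (mul_fr a i k.1)
      rw [map_mul, ψ.commutes, ψ.commutes] at h1
      rw [h1, hC, hC, hrel k.1, xv, dif_neg k.2]
    have h := AlgHom.congr_fun hψ P
    rw [AlgHom.comp_apply, show pres a i P = 0 from hP, map_zero] at h
    exact Ideal.Quotient.eq_zero_iff_mem.1 h.symm
  · rintro _ ⟨k, hk, rfl⟩
    show pres a i (eqs a i k) = 0
    rw [eqs, if_neg hk, xv, dif_neg hk, map_sub, map_mul, pres, aeval_C, aeval_C, aeval_X, sub_eq_zero]
    exact (mul_fr a i k).symm

/-- A chart of the blow-up in a Koszul regular sequence is a local complete intersection. -/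
theorem isLCI_chart (ha : LCI.IsKoszulRegularSeq B (List.ofFn a)) : LCI.IsLCI B (Chart a i) := by
  classical
  let r := MvPolynomial.renameEquiv B (num i)
  let α : MvPolynomial (Fin n) B →ₐ[B] Chart a i := (pres a i).comp r.toAlgHom
  have hα : Function.Surjective α := (pres_surjective a i).comp r.surjective
  refine ⟨Algebra.FiniteType.of_surjective α hα, n, α, hα, ?_⟩
  let L : List (MvPolynomial (Fin n) B) :=
    (List.ofFn fun k : Fin n => eqs a i (num i k).1).map r.symm.toRingEquiv
  have hL : LCI.IsKoszulRegularSeq _ L := isKoszulRegularSeq_equiv _ _ (isKoszulRegularSeq_chart a i ha)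
  have hker : RingHom.ker α.toRingHom = Ideal.ofList L := by
    have h1 : Ideal.ofList L = (rels a i).map r.symm.toRingEquiv.toRingHom := by
      show Ideal.ofList ((List.ofFn fun k : Fin n => eqs a i (num i k).1).map r.symm.toRingEquiv.toRingHom) = _
      rw [← Ideal.map_ofList]
      congr 1
      rw [rels, Ideal.ofList]
      congr 1
      ext q
      rw [Set.mem_setOf_eq, List.mem_ofFn]
      exact ⟨fun ⟨k, hk⟩ => ⟨_, (num i k).2, hk.symm⟩, fun ⟨k, hk, hq⟩ =>
        ⟨(num i).symm ⟨k, hk⟩, by rw [hq, Equiv.apply_symm_apply]⟩⟩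
    rw [h1, ← ker_pres a i ha]
    ext x
    rw [show (r.symm.toRingEquiv.toRingHom : MvPolynomial (Var i) B →+* MvPolynomial (Fin n) B) =
      (r.symm.toRingEquiv : MvPolynomial (Var i) B →+* MvPolynomial (Fin n) B) from rfl]
    constructor
    · intro hx
      have h := Ideal.mem_map_of_mem (r.symm.toRingEquiv : MvPolynomial (Var i) B →+* MvPolynomial (Fin n) B)
        (show r x ∈ RingHom.ker (pres a i).toRingHom from hx)
      exact (r.symm_apply_apply x) ▸ h
    · intro hx
      obtain ⟨y, hy, rfl⟩ := (Ideal.mem_map_iff_of_surjective _ r.symm.surjective).1 hx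
      show pres a i (r (r.symm y)) = 0
      rw [r.apply_symm_apply]
      exact hy
  rw [isKoszulRegularIdeal_ker_iff _ hα]
  intro 𝔮 h𝔮
  exact kRegAt_of_seq L hL hker

end GrothLib.PerfBlow28
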