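import Groth.Agent.Lib.LCI6.InLocus
import Groth.Agent.Lib.LCI6.Koszul
import Groth.Agent.Lib.BlowUp.Functorial
import Groth.Agent.Lib.Nagata6.Charts
import Groth.Agent.Lib.PerfBlow28.Chart
import Groth.Agent.Lib.SyntLoc.Field
import Groth.Agent.Lib.CMPoly.Basic

/-!
# Blow-ups in Koszul regular ideals are local complete intersections; Cohen–Macaulay charts
-/

set_option autoImplicit false
set_option backward.isDefEq.respectTransparency false
universe u

open CategoryTheory CategoryTheory.Limits AlgebraicGeometry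

namespace GrothLib.PerfBlow28

/-- The blow-up in an ideal locally generated by Koszul regular sequences is a local complete
intersection morphism. -/
theorem inLocus_of_isBlowUp {X X' : Scheme.{u}} (I : X.IdealSheafData) (f : X' ⟶ X)
    (hf : _root_.BlowUp.IsBlowUp f I)
    (hloc : ∀ y : X, ∃ U : X.affineOpens, y ∈ U.1 ∧
      ∃ l : List Γ(X, U.1), LCI.IsKoszulRegularSeq Γ(X, U.1) l ∧ I.ideal U = Ideal.ofList l)
    (x : X') : GrothLib.LCI6.InLocus f x := by
  obtain ⟨⟨U, hU⟩, hyU, l, hl, hI⟩ := hloc (f x)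
  let A : Type u := Γ(X, U)
  let a : Fin l.length → A := l.get
  have hctr : I.ideal ⟨U, hU⟩ = GrothLib.BlowUp17.ctr a := by
    rw [hI, GrothLib.BlowUp17.ctr, Ideal.ofList]
    congr 1
    rw [Set.range_list_get]
  let iX : Spec (CommRingCat.of A) ⟶ X := hU.fromSpec
  have hI' : I.comap iX = GrothLib.BlowUp.idealSheaf (GrothLib.BlowUp17.ctr a) := by
    rw [GrothLib.Nagata6.comap_fromSpec I ⟨U, hU⟩]
    exact congrArg GrothLib.BlowUp.idealSheaf hctr
  have hp := GrothLib.BlowUp.isBlowUp_flat_baseChange iX hf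
  rw [hI'] at hp
  let C := GrothLib.BlowUp.chartsOfIsBlowUp hp
  obtain ⟨q₀, hq₀⟩ : f x ∈ Set.range iX := by
    rw [show Set.range iX = (U : Set X) from IsAffineOpen.range_fromSpec _]
    exact hyU
  obtain ⟨q, -, hq⟩ := Scheme.Pullback.exists_preimage_pullback (f := iX) (g := f) q₀ x hq₀
  obtain ⟨k, q', hq'⟩ : ∃ (k : Fin l.length), q ∈ Set.range (C.j ⟨a k, Ideal.subset_span ⟨k, rfl⟩⟩) := by
    obtain ⟨c, t, rfl⟩ := C.covers q
    obtain ⟨w, hw⟩ := (Ideal.mem_span_range_iff_exists_fun).1 c.2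
    obtain ⟨k, hk⟩ : ∃ k : Fin l.length, GrothLib.BlowUp.frac (c : A)
        (⟨a k, Ideal.subset_span ⟨k, rfl⟩⟩ : GrothLib.BlowUp17.ctr a) ∉ t.asIdeal := by
      by_contra! H
      refine t.isPrime.ne_top ((Ideal.eq_top_iff_one _).2 ?_)
      have h1 : (1 : ↥(_root_.BlowUp.affineAlgebra A (GrothLib.BlowUp17.ctr a) (c : A))) =
          ∑ k, algebraMap A _ (w k) * GrothLib.BlowUp.frac (c : A)
            (⟨a k, Ideal.subset_span ⟨k, rfl⟩⟩ : GrothLib.BlowUp17.ctr a) := by
        refine (mul_cancel_left_mem_nonZeroDivisors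
          (GrothLib.BlowUp.algebraMap_mem_nonZeroDivisors (I := GrothLib.BlowUp17.ctr a) (c : A))).1 ?_
        rw [mul_one, Finset.mul_sum]
        refine (congrArg (algebraMap A
          ↥(_root_.BlowUp.affineAlgebra A (GrothLib.BlowUp17.ctr a) (c : A))) hw.symm).trans ?_
        rw [map_sum]
        refine Finset.sum_congr rfl fun k _ => ?_
        rw [map_mul, mul_left_comm]
        exact congrArg _ (GrothLib.BlowUp.algebraMap_mul_frac (c : A)
          (⟨a k, Ideal.subset_span ⟨k, rfl⟩⟩ : GrothLib.BlowUp17.ctr a)).symm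
      rw [h1]
      exact sum_mem fun k _ => Ideal.mul_mem_left _ _ (H k)
    exact ⟨k, C.overlap _ c t hk⟩
  have key : ∀ (n : ℕ) (a : Fin n → A), LCI.IsKoszulRegularSeq A (List.ofFn a) → ∀ k : Fin n,
      GrothLib.LCI6.LCIHom (algebraMap A (GrothLib.BlowUp17.Chart a k)) := by
    intro n a ha k
    obtain ⟨m, rfl⟩ : ∃ m, n = m + 1 := ⟨n - 1, by have := k.2; omega⟩
    show @LCI.IsLCI A _ _ _ (algebraMap A (GrothLib.BlowUp17.Chart a k)).toAlgebra
    exact (Algebra.algebra_ext (algebraMap A (GrothLib.BlowUp17.Chart a k)).toAlgebra inferInstance fun _ => rfl) ▸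
      GrothLib.PerfBlow28.isLCI_chart a k ha
  let β : A →+* GrothLib.BlowUp17.Chart a k := algebraMap A _
  let j' : Spec (CommRingCat.of (GrothLib.BlowUp17.Chart a k)) ⟶ X' :=
    C.j ⟨a k, Ideal.subset_span ⟨k, rfl⟩⟩ ≫ pullback.snd iX f
  have hj' : j' ≫ f = Spec.map (CommRingCat.ofHom β) ≫ iX := by
    rw [Category.assoc, ← pullback.condition, ← Category.assoc, C.comp]
  have hx : j' q' = x := by
    rw [Scheme.Hom.comp_apply, hq']
    exact hq
  have hβ : GrothLib.LCI6.InLocus (Spec.map (CommRingCat.ofHom β) ≫ iX) q' :=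
    GrothLib.LCI6.inLocus_comp
      (GrothLib.LCI6.inLocus_specMap _ (key _ a (by rw [List.ofFn_get]; exact hl) k) _)
      (GrothLib.LCI6.inLocus_of_smooth iX _)
  rw [← hj'] at hβ
  rw [← hx]
  exact (GrothLib.LCI6.inLocus_openImmersion_comp_iff j' f).1 hβ

open IsLocalRing RingTheory.Sequence GrothLib.SyntLoc GrothLib in
theorem isCohenMacaulayRing_of_isLCI_over {R : Type u} [CommRing R] [LocCoh.IsCohenMacaulayRing R]
    {S : Type u} [CommRing S] [Algebra R S] (h : LCI.IsLCI R S) : LocCoh.IsCohenMacaulayRing S := by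
  obtain ⟨hft, n, α, hα, hI⟩ := h
  haveI : IsNoetherianRing S := isNoetherianRing_of_surjective _ _ α.toRingHom hα
  refine ⟨fun q _ => ?_⟩
  let p : Ideal (MvPolynomial (Fin n) R) := q.comap α.toRingHom
  obtain ⟨g, hg, l, hl, hIl⟩ := (GrothLib.LCI6.isKoszulRegularIdeal_ker_iff _ hα).mp hI q inferInstance
  obtain ⟨l', -, hl', hI'⟩ := GrothLib.LCI6.exists_atPrime_list g l hl hIl p hg
  let L := Localization.AtPrime p
  haveI : LocCoh.IsCohenMacaulayRing (MvPolynomial (Fin n) R) := GrothLib.CMPoly.isCohenMacaulayRing_mvPolynomial R n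
  haveI : LocCoh.IsCohenMacaulayLocalRing L := LocCoh.IsCohenMacaulayRing.isCohenMacaulayLocalRing_localization p
  have hker : RingHom.ker α.toRingHom ≤ p := fun x hx => by
    rw [Ideal.mem_comap, RingHom.mem_ker.mp hx]; exact zero_mem _
  have hmem : ∀ r ∈ l', r ∈ maximalIdeal L := fun r hr => by
    rw [← Localization.AtPrime.map_eq_maximalIdeal]
    exact Ideal.map_mono hker (hI' ▸ Ideal.subset_span hr)
  have hmem' : ∀ i, l'.get i ∈ maximalIdeal L := fun i => hmem _ (List.get_mem l' i)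
  have hH1 := GrothLib.SeqKinds.isH1Regular_of_isKoszulRegularSeq l' hl'
  have hw : IsWeaklyRegular L l' := by
    rw [← List.ofFn_get l']
    refine GrothLib.KoszulH1.isWeaklyRegular_of_separates _
      (fun i => GrothLib.KoszulH1.separates_of_mem_jacobson (IsLocalRing.maximalIdeal_le_jacobson ⊥ (hmem' i))) ?_
    intro m hm
    refine Submodule.span_le.2 ?_ (hH1 m (by rw [← hm]; exact Finset.sum_congr rfl fun i _ => mul_comm _ _))
    rintro _ ⟨i, j, rfl⟩
    exact Submodule.subset_span ⟨i, j, 1, by simp [← Pi.single_smul']⟩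
  haveI := isCohenMacaulayLocalRing_quotient_ofList l' hmem hw
  let φ : L →+* Localization.AtPrime q := Localization.localRingHom p q α.toRingHom rfl
  have hφ : Function.Surjective φ := by
    intro z
    obtain ⟨a, s, rfl⟩ := IsLocalization.exists_mk'_eq q.primeCompl z
    obtain ⟨a, rfl⟩ := hα a
    obtain ⟨t, ht⟩ := hα s
    have ht' : t ∈ p.primeCompl := fun h' => s.2 (ht ▸ h' : (s : S) ∈ q)
    refine ⟨IsLocalization.mk' L a ⟨t, ht'⟩, ?_⟩
    rw [Localization.localRingHom_mk']
    congr 1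
    exact Subtype.ext ht
  have hkφ : RingHom.ker φ = Ideal.ofList l' := by
    rw [← hI']
    refine le_antisymm (fun z hz => ?_) (Ideal.map_le_iff_le_comap.2 fun x hx => ?_)
    · obtain ⟨a, s, rfl⟩ := IsLocalization.exists_mk'_eq p.primeCompl z
      rw [RingHom.mem_ker, Localization.localRingHom_mk', IsLocalization.mk'_eq_zero_iff] at hz
      obtain ⟨⟨m, hm⟩, hma⟩ := hz
      obtain ⟨m, rfl⟩ := hα m
      have hmp : m ∈ p.primeCompl := hm
      have hxmem : m * a ∈ RingHom.ker α.toRingHom := by rw [RingHom.mem_ker, map_mul]; exact hma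
      rw [IsLocalization.mk'_mem_iff]
      have := Ideal.mem_map_of_mem (algebraMap (MvPolynomial (Fin n) R) L) hxmem
      rw [map_mul] at this
      exact (Ideal.unit_mul_mem_iff_mem _ (IsLocalization.map_units L (⟨m, hmp⟩ : p.primeCompl))).1 this
    · rw [Ideal.mem_comap, RingHom.mem_ker, Localization.localRingHom_to_map, RingHom.mem_ker.mp hx, map_zero]
  exact HB26.isCohenMacaulayLocalRing_of_ringEquiv
    ((Ideal.quotEquivOfEq hkφ.symm).trans (RingHom.quotientKerEquivOfSurjective hφ))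

end GrothLib.PerfBlow28
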